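import Cfsg.Agent.Lib.Cert.Suzo.O0

set_option autoImplicit false
set_option maxRecDepth 100000

namespace Cfsg.Agent.Ct.Suzo

open Cfsg.Agent.PC

theorem d20000 : Nat.beq (rng f3 (nat_lit 20000) (nat_lit 2000)) (nat_lit 0) = true := by decide +kernel
theorem d22000 : Nat.beq (rng f3 (nat_lit 22000) (nat_lit 2000)) (nat_lit 0) = true := by decide +kernel
theorem d24000 : Nat.beq (rng f3 (nat_lit 24000) (nat_lit 2000)) (nat_lit 0) = true := by decide +kernel
theorem d26000 : Nat.beq (rng f3 (nat_lit 26000) (nat_lit 2000)) (nat_lit 0) = true := by decide +kernel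
theorem d28000 : Nat.beq (rng f3 (nat_lit 28000) (nat_lit 2000)) (nat_lit 0) = true := by decide +kernel
theorem d30000 : Nat.beq (rng f3 (nat_lit 30000) (nat_lit 2000)) (nat_lit 0) = true := by decide +kernel
theorem d32000 : Nat.beq (rng f3 (nat_lit 32000) (nat_lit 2000)) (nat_lit 0) = true := by decide +kernel
theorem d34000 : Nat.beq (rng f3 (nat_lit 34000) (nat_lit 2000)) (nat_lit 0) = true := by decide +kernel
theorem d36000 : Nat.beq (rng f3 (nat_lit 36000) (nat_lit 2000)) (nat_lit 0) = true := by decide +kernel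
theorem d38000 : Nat.beq (rng f3 (nat_lit 38000) (nat_lit 2000)) (nat_lit 0) = true := by decide +kernel

end Cfsg.Agent.Ct.Suzo
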