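import Cfsg.Agent.Lib.Cert.Suzo.O0

set_option autoImplicit false
set_option maxRecDepth 100000

namespace Cfsg.Agent.Ct.Suzo

open Cfsg.Agent.PC

theorem d40000 : Nat.beq (rng f3 (nat_lit 40000) (nat_lit 2000)) (nat_lit 0) = true := by decide +kernel
theorem d42000 : Nat.beq (rng f3 (nat_lit 42000) (nat_lit 2000)) (nat_lit 0) = true := by decide +kernel
theorem d44000 : Nat.beq (rng f3 (nat_lit 44000) (nat_lit 2000)) (nat_lit 0) = true := by decide +kernel
theorem d46000 : Nat.beq (rng f3 (nat_lit 46000) (nat_lit 2000)) (nat_lit 0) = true := by decide +kernel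
theorem d48000 : Nat.beq (rng f3 (nat_lit 48000) (nat_lit 2000)) (nat_lit 0) = true := by decide +kernel
theorem d50000 : Nat.beq (rng f3 (nat_lit 50000) (nat_lit 2000)) (nat_lit 0) = true := by decide +kernel
theorem d52000 : Nat.beq (rng f3 (nat_lit 52000) (nat_lit 2000)) (nat_lit 0) = true := by decide +kernel
theorem d54000 : Nat.beq (rng f3 (nat_lit 54000) (nat_lit 2000)) (nat_lit 0) = true := by decide +kernel
theorem d56000 : Nat.beq (rng f3 (nat_lit 56000) (nat_lit 2000)) (nat_lit 0) = true := by decide +kernel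
theorem d58000 : Nat.beq (rng f3 (nat_lit 58000) (nat_lit 2000)) (nat_lit 0) = true := by decide +kernel

end Cfsg.Agent.Ct.Suzo
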