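import Cfsg.Agent.Lib.Cert.Suzo.O0

set_option autoImplicit false
set_option maxRecDepth 100000

namespace Cfsg.Agent.Ct.Suzo

open Cfsg.Agent.PC

theorem v1x55000 : Nat.beq (rng u1 (nat_lit 55000) (nat_lit 2500)) (nat_lit 0) = true := by decide +kernel
theorem v1x57500 : Nat.beq (rng u1 (nat_lit 57500) (nat_lit 2500)) (nat_lit 0) = true := by decide +kernel
theorem v1x60000 : Nat.beq (rng u1 (nat_lit 60000) (nat_lit 2500)) (nat_lit 0) = true := by decide +kernel
theorem v1x62500 : Nat.beq (rng u1 (nat_lit 62500) (nat_lit 2500)) (nat_lit 0) = true := by decide +kernel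
theorem v1x65000 : Nat.beq (rng u1 (nat_lit 65000) (nat_lit 2500)) (nat_lit 0) = true := by decide +kernel
theorem v1x67500 : Nat.beq (rng u1 (nat_lit 67500) (nat_lit 2500)) (nat_lit 0) = true := by decide +kernel
theorem v1x70000 : Nat.beq (rng u1 (nat_lit 70000) (nat_lit 2500)) (nat_lit 0) = true := by decide +kernel
theorem v1x72500 : Nat.beq (rng u1 (nat_lit 72500) (nat_lit 2500)) (nat_lit 0) = true := by decide +kernel
theorem v1x75000 : Nat.beq (rng u1 (nat_lit 75000) (nat_lit 2500)) (nat_lit 0) = true := by decide +kernel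
theorem v1x77500 : Nat.beq (rng u1 (nat_lit 77500) (nat_lit 2500)) (nat_lit 0) = true := by decide +kernel

end Cfsg.Agent.Ct.Suzo
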