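import Cfsg.Agent.Lib.Cert.Suzo.U0
import Cfsg.Agent.Lib.Cert.Suzo.U1
import Cfsg.Agent.Lib.Cert.Suzo.U2
import Cfsg.Agent.Lib.Cert.Suzo.U3
import Cfsg.Agent.Lib.Cert.Suzo.U4
import Cfsg.Agent.Lib.Cert.Suzo.U5
import Cfsg.Agent.Lib.Cert.Suzo.U6
import Cfsg.Agent.Lib.Cert.Suzo.U7
import Cfsg.Agent.Lib.Cert.Suzo.U8
import Cfsg.Agent.Lib.Cert.Suzo.U9
import Cfsg.Agent.Lib.Cert.Suzo.U10
import Cfsg.Agent.Lib.Cert.Suzo.U11
import Cfsg.Agent.Lib.Cert.Suzo.U12
import Cfsg.Agent.Lib.Cert.Suzo.U13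
import Cfsg.Agent.Lib.Cert.Suzo.U14
import Cfsg.Agent.Lib.Cert.Suzo.U15
import Cfsg.Agent.Lib.Cert.Suzo.U16
import Cfsg.Agent.Lib.Cert.Suzo.U17

set_option autoImplicit false
set_option maxRecDepth 100000

namespace Cfsg.Agent.Ct.Suzo

open Cfsg.Agent.PC

open Cfsg.Agent.Fi Cfsg.Agent.Ct
open Cfsg.Agent.Ct.Suz
theorem h3 : ∀ i < 135134, f3 i = 0 := by
  have h := zero_lt_zero f3
  have h := zero_lt_add (a := (nat_lit 0)) (n := (nat_lit 2000)) (b := (nat_lit 2000)) h d0 rfl
  have h := zero_lt_add (a := (nat_lit 2000)) (n := (nat_lit 2000)) (b := (nat_lit 4000)) h d2000 rfl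
  have h := zero_lt_add (a := (nat_lit 4000)) (n := (nat_lit 2000)) (b := (nat_lit 6000)) h d4000 rfl
  have h := zero_lt_add (a := (nat_lit 6000)) (n := (nat_lit 2000)) (b := (nat_lit 8000)) h d6000 rfl
  have h := zero_lt_add (a := (nat_lit 8000)) (n := (nat_lit 2000)) (b := (nat_lit 10000)) h d8000 rfl
  have h := zero_lt_add (a := (nat_lit 10000)) (n := (nat_lit 2000)) (b := (nat_lit 12000)) h d10000 rfl
  have h := zero_lt_add (a := (nat_lit 12000)) (n := (nat_lit 2000)) (b := (nat_lit 14000)) h d12000 rfl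
  have h := zero_lt_add (a := (nat_lit 14000)) (n := (nat_lit 2000)) (b := (nat_lit 16000)) h d14000 rfl
  have h := zero_lt_add (a := (nat_lit 16000)) (n := (nat_lit 2000)) (b := (nat_lit 18000)) h d16000 rfl
  have h := zero_lt_add (a := (nat_lit 18000)) (n := (nat_lit 2000)) (b := (nat_lit 20000)) h d18000 rfl
  have h := zero_lt_add (a := (nat_lit 20000)) (n := (nat_lit 2000)) (b := (nat_lit 22000)) h d20000 rfl
  have h := zero_lt_add (a := (nat_lit 22000)) (n := (nat_lit 2000)) (b := (nat_lit 24000)) h d22000 rfl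
  have h := zero_lt_add (a := (nat_lit 24000)) (n := (nat_lit 2000)) (b := (nat_lit 26000)) h d24000 rfl
  have h := zero_lt_add (a := (nat_lit 26000)) (n := (nat_lit 2000)) (b := (nat_lit 28000)) h d26000 rfl
  have h := zero_lt_add (a := (nat_lit 28000)) (n := (nat_lit 2000)) (b := (nat_lit 30000)) h d28000 rfl
  have h := zero_lt_add (a := (nat_lit 30000)) (n := (nat_lit 2000)) (b := (nat_lit 32000)) h d30000 rfl
  have h := zero_lt_add (a := (nat_lit 32000)) (n := (nat_lit 2000)) (b := (nat_lit 34000)) h d32000 rfl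
  have h := zero_lt_add (a := (nat_lit 34000)) (n := (nat_lit 2000)) (b := (nat_lit 36000)) h d34000 rfl
  have h := zero_lt_add (a := (nat_lit 36000)) (n := (nat_lit 2000)) (b := (nat_lit 38000)) h d36000 rfl
  have h := zero_lt_add (a := (nat_lit 38000)) (n := (nat_lit 2000)) (b := (nat_lit 40000)) h d38000 rfl
  have h := zero_lt_add (a := (nat_lit 40000)) (n := (nat_lit 2000)) (b := (nat_lit 42000)) h d40000 rfl
  have h := zero_lt_add (a := (nat_lit 42000)) (n := (nat_lit 2000)) (b := (nat_lit 44000)) h d42000 rfl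
  have h := zero_lt_add (a := (nat_lit 44000)) (n := (nat_lit 2000)) (b := (nat_lit 46000)) h d44000 rfl
  have h := zero_lt_add (a := (nat_lit 46000)) (n := (nat_lit 2000)) (b := (nat_lit 48000)) h d46000 rfl
  have h := zero_lt_add (a := (nat_lit 48000)) (n := (nat_lit 2000)) (b := (nat_lit 50000)) h d48000 rfl
  have h := zero_lt_add (a := (nat_lit 50000)) (n := (nat_lit 2000)) (b := (nat_lit 52000)) h d50000 rfl
  have h := zero_lt_add (a := (nat_lit 52000)) (n := (nat_lit 2000)) (b := (nat_lit 54000)) h d52000 rfl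
  have h := zero_lt_add (a := (nat_lit 54000)) (n := (nat_lit 2000)) (b := (nat_lit 56000)) h d54000 rfl
  have h := zero_lt_add (a := (nat_lit 56000)) (n := (nat_lit 2000)) (b := (nat_lit 58000)) h d56000 rfl
  have h := zero_lt_add (a := (nat_lit 58000)) (n := (nat_lit 2000)) (b := (nat_lit 60000)) h d58000 rfl
  have h := zero_lt_add (a := (nat_lit 60000)) (n := (nat_lit 2000)) (b := (nat_lit 62000)) h d60000 rfl
  have h := zero_lt_add (a := (nat_lit 62000)) (n := (nat_lit 2000)) (b := (nat_lit 64000)) h d62000 rfl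
  have h := zero_lt_add (a := (nat_lit 64000)) (n := (nat_lit 2000)) (b := (nat_lit 66000)) h d64000 rfl
  have h := zero_lt_add (a := (nat_lit 66000)) (n := (nat_lit 2000)) (b := (nat_lit 68000)) h d66000 rfl
  have h := zero_lt_add (a := (nat_lit 68000)) (n := (nat_lit 2000)) (b := (nat_lit 70000)) h d68000 rfl
  have h := zero_lt_add (a := (nat_lit 70000)) (n := (nat_lit 2000)) (b := (nat_lit 72000)) h d70000 rfl
  have h := zero_lt_add (a := (nat_lit 72000)) (n := (nat_lit 2000)) (b := (nat_lit 74000)) h d72000 rfl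
  have h := zero_lt_add (a := (nat_lit 74000)) (n := (nat_lit 2000)) (b := (nat_lit 76000)) h d74000 rfl
  have h := zero_lt_add (a := (nat_lit 76000)) (n := (nat_lit 2000)) (b := (nat_lit 78000)) h d76000 rfl
  have h := zero_lt_add (a := (nat_lit 78000)) (n := (nat_lit 2000)) (b := (nat_lit 80000)) h d78000 rfl
  have h := zero_lt_add (a := (nat_lit 80000)) (n := (nat_lit 2000)) (b := (nat_lit 82000)) h d80000 rfl
  have h := zero_lt_add (a := (nat_lit 82000)) (n := (nat_lit 2000)) (b := (nat_lit 84000)) h d82000 rfl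
  have h := zero_lt_add (a := (nat_lit 84000)) (n := (nat_lit 2000)) (b := (nat_lit 86000)) h d84000 rfl
  have h := zero_lt_add (a := (nat_lit 86000)) (n := (nat_lit 2000)) (b := (nat_lit 88000)) h d86000 rfl
  have h := zero_lt_add (a := (nat_lit 88000)) (n := (nat_lit 2000)) (b := (nat_lit 90000)) h d88000 rfl
  have h := zero_lt_add (a := (nat_lit 90000)) (n := (nat_lit 2000)) (b := (nat_lit 92000)) h d90000 rfl
  have h := zero_lt_add (a := (nat_lit 92000)) (n := (nat_lit 2000)) (b := (nat_lit 94000)) h d92000 rfl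
  have h := zero_lt_add (a := (nat_lit 94000)) (n := (nat_lit 2000)) (b := (nat_lit 96000)) h d94000 rfl
  have h := zero_lt_add (a := (nat_lit 96000)) (n := (nat_lit 2000)) (b := (nat_lit 98000)) h d96000 rfl
  have h := zero_lt_add (a := (nat_lit 98000)) (n := (nat_lit 2000)) (b := (nat_lit 100000)) h d98000 rfl
  have h := zero_lt_add (a := (nat_lit 100000)) (n := (nat_lit 2000)) (b := (nat_lit 102000)) h d100000 rfl
  have h := zero_lt_add (a := (nat_lit 102000)) (n := (nat_lit 2000)) (b := (nat_lit 104000)) h d102000 rfl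
  have h := zero_lt_add (a := (nat_lit 104000)) (n := (nat_lit 2000)) (b := (nat_lit 106000)) h d104000 rfl
  have h := zero_lt_add (a := (nat_lit 106000)) (n := (nat_lit 2000)) (b := (nat_lit 108000)) h d106000 rfl
  have h := zero_lt_add (a := (nat_lit 108000)) (n := (nat_lit 2000)) (b := (nat_lit 110000)) h d108000 rfl
  have h := zero_lt_add (a := (nat_lit 110000)) (n := (nat_lit 2000)) (b := (nat_lit 112000)) h d110000 rfl
  have h := zero_lt_add (a := (nat_lit 112000)) (n := (nat_lit 2000)) (b := (nat_lit 114000)) h d112000 rfl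
  have h := zero_lt_add (a := (nat_lit 114000)) (n := (nat_lit 2000)) (b := (nat_lit 116000)) h d114000 rfl
  have h := zero_lt_add (a := (nat_lit 116000)) (n := (nat_lit 2000)) (b := (nat_lit 118000)) h d116000 rfl
  have h := zero_lt_add (a := (nat_lit 118000)) (n := (nat_lit 2000)) (b := (nat_lit 120000)) h d118000 rfl
  have h := zero_lt_add (a := (nat_lit 120000)) (n := (nat_lit 2000)) (b := (nat_lit 122000)) h d120000 rfl
  have h := zero_lt_add (a := (nat_lit 122000)) (n := (nat_lit 2000)) (b := (nat_lit 124000)) h d122000 rfl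
  have h := zero_lt_add (a := (nat_lit 124000)) (n := (nat_lit 2000)) (b := (nat_lit 126000)) h d124000 rfl
  have h := zero_lt_add (a := (nat_lit 126000)) (n := (nat_lit 2000)) (b := (nat_lit 128000)) h d126000 rfl
  have h := zero_lt_add (a := (nat_lit 128000)) (n := (nat_lit 2000)) (b := (nat_lit 130000)) h d128000 rfl
  have h := zero_lt_add (a := (nat_lit 130000)) (n := (nat_lit 2000)) (b := (nat_lit 132000)) h d130000 rfl
  have h := zero_lt_add (a := (nat_lit 132000)) (n := (nat_lit 2000)) (b := (nat_lit 134000)) h d132000 rfl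
  have h := zero_lt_add (a := (nat_lit 134000)) (n := (nat_lit 1134)) (b := (nat_lit 135134)) h d134000 rfl
  exact h
theorem cl : Cl q sg 0 V 135135 := md.cl2 cs h3 (reps_tabs (md0).reps (by decide +kernel) h4) (M' := 8) (t := Ct) (by decide +kernel)
  (by rw [card]; decide +kernel)
theorem k1 : ∀ i < 135135, u1 i = 0 := by
  have h := zero_lt_zero u1
  have h := zero_lt_add (a := (nat_lit 0)) (n := (nat_lit 2500)) (b := (nat_lit 2500)) h v1x0 rfl
  have h := zero_lt_add (a := (nat_lit 2500)) (n := (nat_lit 2500)) (b := (nat_lit 5000)) h v1x2500 rfl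
  have h := zero_lt_add (a := (nat_lit 5000)) (n := (nat_lit 2500)) (b := (nat_lit 7500)) h v1x5000 rfl
  have h := zero_lt_add (a := (nat_lit 7500)) (n := (nat_lit 2500)) (b := (nat_lit 10000)) h v1x7500 rfl
  have h := zero_lt_add (a := (nat_lit 10000)) (n := (nat_lit 2500)) (b := (nat_lit 12500)) h v1x10000 rfl
  have h := zero_lt_add (a := (nat_lit 12500)) (n := (nat_lit 2500)) (b := (nat_lit 15000)) h v1x12500 rfl
  have h := zero_lt_add (a := (nat_lit 15000)) (n := (nat_lit 2500)) (b := (nat_lit 17500)) h v1x15000 rfl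
  have h := zero_lt_add (a := (nat_lit 17500)) (n := (nat_lit 2500)) (b := (nat_lit 20000)) h v1x17500 rfl
  have h := zero_lt_add (a := (nat_lit 20000)) (n := (nat_lit 2500)) (b := (nat_lit 22500)) h v1x20000 rfl
  have h := zero_lt_add (a := (nat_lit 22500)) (n := (nat_lit 2500)) (b := (nat_lit 25000)) h v1x22500 rfl
  have h := zero_lt_add (a := (nat_lit 25000)) (n := (nat_lit 2500)) (b := (nat_lit 27500)) h v1x25000 rfl
  have h := zero_lt_add (a := (nat_lit 27500)) (n := (nat_lit 2500)) (b := (nat_lit 30000)) h v1x27500 rfl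
  have h := zero_lt_add (a := (nat_lit 30000)) (n := (nat_lit 2500)) (b := (nat_lit 32500)) h v1x30000 rfl
  have h := zero_lt_add (a := (nat_lit 32500)) (n := (nat_lit 2500)) (b := (nat_lit 35000)) h v1x32500 rfl
  have h := zero_lt_add (a := (nat_lit 35000)) (n := (nat_lit 2500)) (b := (nat_lit 37500)) h v1x35000 rfl
  have h := zero_lt_add (a := (nat_lit 37500)) (n := (nat_lit 2500)) (b := (nat_lit 40000)) h v1x37500 rfl
  have h := zero_lt_add (a := (nat_lit 40000)) (n := (nat_lit 2500)) (b := (nat_lit 42500)) h v1x40000 rfl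
  have h := zero_lt_add (a := (nat_lit 42500)) (n := (nat_lit 2500)) (b := (nat_lit 45000)) h v1x42500 rfl
  have h := zero_lt_add (a := (nat_lit 45000)) (n := (nat_lit 2500)) (b := (nat_lit 47500)) h v1x45000 rfl
  have h := zero_lt_add (a := (nat_lit 47500)) (n := (nat_lit 2500)) (b := (nat_lit 50000)) h v1x47500 rfl
  have h := zero_lt_add (a := (nat_lit 50000)) (n := (nat_lit 2500)) (b := (nat_lit 52500)) h v1x50000 rfl
  have h := zero_lt_add (a := (nat_lit 52500)) (n := (nat_lit 2500)) (b := (nat_lit 55000)) h v1x52500 rfl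
  have h := zero_lt_add (a := (nat_lit 55000)) (n := (nat_lit 2500)) (b := (nat_lit 57500)) h v1x55000 rfl
  have h := zero_lt_add (a := (nat_lit 57500)) (n := (nat_lit 2500)) (b := (nat_lit 60000)) h v1x57500 rfl
  have h := zero_lt_add (a := (nat_lit 60000)) (n := (nat_lit 2500)) (b := (nat_lit 62500)) h v1x60000 rfl
  have h := zero_lt_add (a := (nat_lit 62500)) (n := (nat_lit 2500)) (b := (nat_lit 65000)) h v1x62500 rfl
  have h := zero_lt_add (a := (nat_lit 65000)) (n := (nat_lit 2500)) (b := (nat_lit 67500)) h v1x65000 rfl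
  have h := zero_lt_add (a := (nat_lit 67500)) (n := (nat_lit 2500)) (b := (nat_lit 70000)) h v1x67500 rfl
  have h := zero_lt_add (a := (nat_lit 70000)) (n := (nat_lit 2500)) (b := (nat_lit 72500)) h v1x70000 rfl
  have h := zero_lt_add (a := (nat_lit 72500)) (n := (nat_lit 2500)) (b := (nat_lit 75000)) h v1x72500 rfl
  have h := zero_lt_add (a := (nat_lit 75000)) (n := (nat_lit 2500)) (b := (nat_lit 77500)) h v1x75000 rfl
  have h := zero_lt_add (a := (nat_lit 77500)) (n := (nat_lit 2500)) (b := (nat_lit 80000)) h v1x77500 rfl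
  have h := zero_lt_add (a := (nat_lit 80000)) (n := (nat_lit 2500)) (b := (nat_lit 82500)) h v1x80000 rfl
  have h := zero_lt_add (a := (nat_lit 82500)) (n := (nat_lit 2500)) (b := (nat_lit 85000)) h v1x82500 rfl
  have h := zero_lt_add (a := (nat_lit 85000)) (n := (nat_lit 2500)) (b := (nat_lit 87500)) h v1x85000 rfl
  have h := zero_lt_add (a := (nat_lit 87500)) (n := (nat_lit 2500)) (b := (nat_lit 90000)) h v1x87500 rfl
  have h := zero_lt_add (a := (nat_lit 90000)) (n := (nat_lit 2500)) (b := (nat_lit 92500)) h v1x90000 rfl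
  have h := zero_lt_add (a := (nat_lit 92500)) (n := (nat_lit 2500)) (b := (nat_lit 95000)) h v1x92500 rfl
  have h := zero_lt_add (a := (nat_lit 95000)) (n := (nat_lit 2500)) (b := (nat_lit 97500)) h v1x95000 rfl
  have h := zero_lt_add (a := (nat_lit 97500)) (n := (nat_lit 2500)) (b := (nat_lit 100000)) h v1x97500 rfl
  have h := zero_lt_add (a := (nat_lit 100000)) (n := (nat_lit 2500)) (b := (nat_lit 102500)) h v1x100000 rfl
  have h := zero_lt_add (a := (nat_lit 102500)) (n := (nat_lit 2500)) (b := (nat_lit 105000)) h v1x102500 rfl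
  have h := zero_lt_add (a := (nat_lit 105000)) (n := (nat_lit 2500)) (b := (nat_lit 107500)) h v1x105000 rfl
  have h := zero_lt_add (a := (nat_lit 107500)) (n := (nat_lit 2500)) (b := (nat_lit 110000)) h v1x107500 rfl
  have h := zero_lt_add (a := (nat_lit 110000)) (n := (nat_lit 2500)) (b := (nat_lit 112500)) h v1x110000 rfl
  have h := zero_lt_add (a := (nat_lit 112500)) (n := (nat_lit 2500)) (b := (nat_lit 115000)) h v1x112500 rfl
  have h := zero_lt_add (a := (nat_lit 115000)) (n := (nat_lit 2500)) (b := (nat_lit 117500)) h v1x115000 rfl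
  have h := zero_lt_add (a := (nat_lit 117500)) (n := (nat_lit 2500)) (b := (nat_lit 120000)) h v1x117500 rfl
  have h := zero_lt_add (a := (nat_lit 120000)) (n := (nat_lit 2500)) (b := (nat_lit 122500)) h v1x120000 rfl
  have h := zero_lt_add (a := (nat_lit 122500)) (n := (nat_lit 2500)) (b := (nat_lit 125000)) h v1x122500 rfl
  have h := zero_lt_add (a := (nat_lit 125000)) (n := (nat_lit 2500)) (b := (nat_lit 127500)) h v1x125000 rfl
  have h := zero_lt_add (a := (nat_lit 127500)) (n := (nat_lit 2500)) (b := (nat_lit 130000)) h v1x127500 rfl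
  have h := zero_lt_add (a := (nat_lit 130000)) (n := (nat_lit 2500)) (b := (nat_lit 132500)) h v1x130000 rfl
  have h := zero_lt_add (a := (nat_lit 132500)) (n := (nat_lit 2500)) (b := (nat_lit 135000)) h v1x132500 rfl
  have h := zero_lt_add (a := (nat_lit 135000)) (n := (nat_lit 135)) (b := (nat_lit 135135)) h v1x135000 rfl
  exact h
theorem o1 : CardLE (Fx q [nat_lit 17, nat_lit 0]) 120 := md.lvc cs cl au (aw := [nat_lit 13, nat_lit 13, nat_lit 15, nat_lit 14, nat_lit 14, nat_lit 16, nat_lit 16]) (y := 18) (by decide +kernel) k1 n1 o2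
theorem k0 : ∀ i < 135135, u0 i = 0 := by
  have h := zero_lt_zero u0
  have h := zero_lt_add (a := (nat_lit 0)) (n := (nat_lit 2500)) (b := (nat_lit 2500)) h v0x0 rfl
  have h := zero_lt_add (a := (nat_lit 2500)) (n := (nat_lit 2500)) (b := (nat_lit 5000)) h v0x2500 rfl
  have h := zero_lt_add (a := (nat_lit 5000)) (n := (nat_lit 2500)) (b := (nat_lit 7500)) h v0x5000 rfl
  have h := zero_lt_add (a := (nat_lit 7500)) (n := (nat_lit 2500)) (b := (nat_lit 10000)) h v0x7500 rfl
  have h := zero_lt_add (a := (nat_lit 10000)) (n := (nat_lit 2500)) (b := (nat_lit 12500)) h v0x10000 rfl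
  have h := zero_lt_add (a := (nat_lit 12500)) (n := (nat_lit 2500)) (b := (nat_lit 15000)) h v0x12500 rfl
  have h := zero_lt_add (a := (nat_lit 15000)) (n := (nat_lit 2500)) (b := (nat_lit 17500)) h v0x15000 rfl
  have h := zero_lt_add (a := (nat_lit 17500)) (n := (nat_lit 2500)) (b := (nat_lit 20000)) h v0x17500 rfl
  have h := zero_lt_add (a := (nat_lit 20000)) (n := (nat_lit 2500)) (b := (nat_lit 22500)) h v0x20000 rfl
  have h := zero_lt_add (a := (nat_lit 22500)) (n := (nat_lit 2500)) (b := (nat_lit 25000)) h v0x22500 rfl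
  have h := zero_lt_add (a := (nat_lit 25000)) (n := (nat_lit 2500)) (b := (nat_lit 27500)) h v0x25000 rfl
  have h := zero_lt_add (a := (nat_lit 27500)) (n := (nat_lit 2500)) (b := (nat_lit 30000)) h v0x27500 rfl
  have h := zero_lt_add (a := (nat_lit 30000)) (n := (nat_lit 2500)) (b := (nat_lit 32500)) h v0x30000 rfl
  have h := zero_lt_add (a := (nat_lit 32500)) (n := (nat_lit 2500)) (b := (nat_lit 35000)) h v0x32500 rfl
  have h := zero_lt_add (a := (nat_lit 35000)) (n := (nat_lit 2500)) (b := (nat_lit 37500)) h v0x35000 rfl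
  have h := zero_lt_add (a := (nat_lit 37500)) (n := (nat_lit 2500)) (b := (nat_lit 40000)) h v0x37500 rfl
  have h := zero_lt_add (a := (nat_lit 40000)) (n := (nat_lit 2500)) (b := (nat_lit 42500)) h v0x40000 rfl
  have h := zero_lt_add (a := (nat_lit 42500)) (n := (nat_lit 2500)) (b := (nat_lit 45000)) h v0x42500 rfl
  have h := zero_lt_add (a := (nat_lit 45000)) (n := (nat_lit 2500)) (b := (nat_lit 47500)) h v0x45000 rfl
  have h := zero_lt_add (a := (nat_lit 47500)) (n := (nat_lit 2500)) (b := (nat_lit 50000)) h v0x47500 rfl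
  have h := zero_lt_add (a := (nat_lit 50000)) (n := (nat_lit 2500)) (b := (nat_lit 52500)) h v0x50000 rfl
  have h := zero_lt_add (a := (nat_lit 52500)) (n := (nat_lit 2500)) (b := (nat_lit 55000)) h v0x52500 rfl
  have h := zero_lt_add (a := (nat_lit 55000)) (n := (nat_lit 2500)) (b := (nat_lit 57500)) h v0x55000 rfl
  have h := zero_lt_add (a := (nat_lit 57500)) (n := (nat_lit 2500)) (b := (nat_lit 60000)) h v0x57500 rfl
  have h := zero_lt_add (a := (nat_lit 60000)) (n := (nat_lit 2500)) (b := (nat_lit 62500)) h v0x60000 rfl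
  have h := zero_lt_add (a := (nat_lit 62500)) (n := (nat_lit 2500)) (b := (nat_lit 65000)) h v0x62500 rfl
  have h := zero_lt_add (a := (nat_lit 65000)) (n := (nat_lit 2500)) (b := (nat_lit 67500)) h v0x65000 rfl
  have h := zero_lt_add (a := (nat_lit 67500)) (n := (nat_lit 2500)) (b := (nat_lit 70000)) h v0x67500 rfl
  have h := zero_lt_add (a := (nat_lit 70000)) (n := (nat_lit 2500)) (b := (nat_lit 72500)) h v0x70000 rfl
  have h := zero_lt_add (a := (nat_lit 72500)) (n := (nat_lit 2500)) (b := (nat_lit 75000)) h v0x72500 rfl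
  have h := zero_lt_add (a := (nat_lit 75000)) (n := (nat_lit 2500)) (b := (nat_lit 77500)) h v0x75000 rfl
  have h := zero_lt_add (a := (nat_lit 77500)) (n := (nat_lit 2500)) (b := (nat_lit 80000)) h v0x77500 rfl
  have h := zero_lt_add (a := (nat_lit 80000)) (n := (nat_lit 2500)) (b := (nat_lit 82500)) h v0x80000 rfl
  have h := zero_lt_add (a := (nat_lit 82500)) (n := (nat_lit 2500)) (b := (nat_lit 85000)) h v0x82500 rfl
  have h := zero_lt_add (a := (nat_lit 85000)) (n := (nat_lit 2500)) (b := (nat_lit 87500)) h v0x85000 rfl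
  have h := zero_lt_add (a := (nat_lit 87500)) (n := (nat_lit 2500)) (b := (nat_lit 90000)) h v0x87500 rfl
  have h := zero_lt_add (a := (nat_lit 90000)) (n := (nat_lit 2500)) (b := (nat_lit 92500)) h v0x90000 rfl
  have h := zero_lt_add (a := (nat_lit 92500)) (n := (nat_lit 2500)) (b := (nat_lit 95000)) h v0x92500 rfl
  have h := zero_lt_add (a := (nat_lit 95000)) (n := (nat_lit 2500)) (b := (nat_lit 97500)) h v0x95000 rfl
  have h := zero_lt_add (a := (nat_lit 97500)) (n := (nat_lit 2500)) (b := (nat_lit 100000)) h v0x97500 rfl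
  have h := zero_lt_add (a := (nat_lit 100000)) (n := (nat_lit 2500)) (b := (nat_lit 102500)) h v0x100000 rfl
  have h := zero_lt_add (a := (nat_lit 102500)) (n := (nat_lit 2500)) (b := (nat_lit 105000)) h v0x102500 rfl
  have h := zero_lt_add (a := (nat_lit 105000)) (n := (nat_lit 2500)) (b := (nat_lit 107500)) h v0x105000 rfl
  have h := zero_lt_add (a := (nat_lit 107500)) (n := (nat_lit 2500)) (b := (nat_lit 110000)) h v0x107500 rfl
  have h := zero_lt_add (a := (nat_lit 110000)) (n := (nat_lit 2500)) (b := (nat_lit 112500)) h v0x110000 rfl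
  have h := zero_lt_add (a := (nat_lit 112500)) (n := (nat_lit 2500)) (b := (nat_lit 115000)) h v0x112500 rfl
  have h := zero_lt_add (a := (nat_lit 115000)) (n := (nat_lit 2500)) (b := (nat_lit 117500)) h v0x115000 rfl
  have h := zero_lt_add (a := (nat_lit 117500)) (n := (nat_lit 2500)) (b := (nat_lit 120000)) h v0x117500 rfl
  have h := zero_lt_add (a := (nat_lit 120000)) (n := (nat_lit 2500)) (b := (nat_lit 122500)) h v0x120000 rfl
  have h := zero_lt_add (a := (nat_lit 122500)) (n := (nat_lit 2500)) (b := (nat_lit 125000)) h v0x122500 rfl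
  have h := zero_lt_add (a := (nat_lit 125000)) (n := (nat_lit 2500)) (b := (nat_lit 127500)) h v0x125000 rfl
  have h := zero_lt_add (a := (nat_lit 127500)) (n := (nat_lit 2500)) (b := (nat_lit 130000)) h v0x127500 rfl
  have h := zero_lt_add (a := (nat_lit 130000)) (n := (nat_lit 2500)) (b := (nat_lit 132500)) h v0x130000 rfl
  have h := zero_lt_add (a := (nat_lit 132500)) (n := (nat_lit 2500)) (b := (nat_lit 135000)) h v0x132500 rfl
  have h := zero_lt_add (a := (nat_lit 135000)) (n := (nat_lit 135)) (b := (nat_lit 135135)) h v0x135000 rfl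
  exact h
theorem o0 : CardLE (Fx q [nat_lit 0]) 6635520 := md.lvc cs cl au (aw := [nat_lit 13, nat_lit 16]) (y := 17) (by decide +kernel) k0 n0 o1
theorem aut : Nat.card (MulAut (Cfsg.Spor.Suz)) ≤ 135135 * 6635520 := cl.top au o0
def pi_t : TN := (TN.node (TN.node (TN.leaf (nat_lit 0x514b3aff4795335b0a5c0fc10f5d16466936bdca74447388a57315235694191a01b00870a29e4800b14a31e03be468eeac127a7683f110300572929d460ef4cca2c69ed6a33db4225f50861e672d525d9bc15b630ca8d39391aef13cdff5e10688f3abc330c587d0ebbef3d42beb9fd4f5491253d6d7e2f2f2a6efa8d29a411e648d097533e1b05786d09824516ece2da221941d18d668ac26259e52ed854ae1986284217730e24cc285d032278c09d70f80d47559f5be585cf499310258d00ab06e3c04717021c5b8cb8dc5a871ef736d17a8bedac0e6a56e4bd0db884a86099d60d656abcc1c58e8f16e8d26687b13d92352a7c6c83193f2e9deab2028e784f2a4619c508a085116a3b8ed8e74884e8411381de361886a775515755a373979d5ee0a7add005a3d1717095cd62d02a0ba96c54bb9c6e605c2f8b67788c8f822e110390450c216a5c1d805c5bc2d8e32168303ca5da517c5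2d45c1f4408329000c63f81d80d12440c341180e8084520601e62cc3f97226e4f82781f4465f5144042780f8728e42182506087b7a88386e96c2c16397d9364d48ba0c8ba7585519da8f14450c4e98b196154648a31208c038c2e39230870a17d274f0b3aabad635208127906b889f81b1e40e44c83833a228090ac2e813531260258c84290f519033c188110c8608668251362685886609c5d84a8e230c3eccd0c73465c44008c4822ba1b9964f0218311890864e44088d1e27643e97f1c162084acd0ee0283a8f705e4546285c0de08cce19e2b6100180f90ce2608089f1fe214898f40a6178c207021a4490584b84e0fc650540be294a00501da25c5519b0b0f240303a08e0508a11610609c1986a0ac3980e03c1fa120590b02e60b4bf0260820c8508690e643c1b2400560300c01d0840d04e00f0dc0887b01a1d805c1403d168080c182903c040048460262b4500160480387e02a0161d80a8080021240280400600803800)) (TN.leaf (nat_lit 0x3787f774cc8d4782ad3cec912d9e6bcb195979083554b685a6d6d6f73bbbd7fd9dc3563e905f2bc578ee8a76367665193f95076af5a3de9fb90f6be45535b6af0ce6b4847f225aab0b0fdacce76e8afae2ec6dd1b02a2cba702bfa2fb35c4d1c8b1559891324b2defd58fa0e1ab67a09cef6a7db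b5732919cebf3a270a5cfc794e74e4b42f967af4555dc5842ef6b3d50ba25fcb66aba557d14dbcc36904b5354cf093f87a7c95c6e599187186e349e7c9580a9967f84c880acd789a69491149c807132c324abd84ad9f9fa176bb595d68849425c26bc95ede1fa36a70d4b602ad55b51cedc3c4c13af6ce5f070e9655767ace8a21db3ef240e5df8b3e4213bee0e21ca272b3ca9e7bf46cd70bea2933ed124b34f34341aa5c035f597422dceaaaaf665a0ec3124107a4f878eabfab5305b555e56f6abf7ac8ea7c706433bd250c473b53b7e49b9da4576b06d1dbabbc6f28ab337fa56dba1f354905152466b0dac6beebeaf71efc1cb395d6a73e51b9949263db7b4fa8cddb24df89c58b9c624db917420647cc553af2468498d8c1be617ce584e1ab33beb8a1bd2e3aef80f48d36a7498dfae06d9788adb5fccbb37e61a6898b8d64d4a9b2adc1abc9f31d70341111d2f653625a0cdadc6fa389ac6631b05f3ce6be6602275df8d9bea4f9eb42b23495979a591ad743e7304bc46f38d166502a456ee6d38ab962b470dfd01c82e42fbb3a5e346626ed216f40d3abb353f1a129ce47ed0a8fe478660cb1e6a91ab56e90cbcc93188d1db75326a62c0c7ecc07d335c4a40ac9615acab7a6a5d8104236b4a4b3bba20f6899502512afe28e61da90b642d7248f19224db7cc70d9911f0d4057df4b66b9541521b046070818158311311a6cb14574708db6182383122721e8c31e997e8d0af5ed34d674354c11ec3a598d7b491584686e86ab1657b488e22392baf1d840b93f059206ce523a97f60c08528e86ae8e8ae6c5c951e3)))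 (TN.node (TN.leaf (nat_lit 0x7feb955e64e63b492ee69868d1ee66d6177544ea4cfaa988d93828236069a20db27cfaa723d875af8350b3d9a7f7614012dca1159f029d3eda3ca48df3a4849c45af364dde3ac70cd8ebc2568a82499d8f5586916293be90538d0e8c1be8b0fcf2ca81a1b535c9511900acd4345d794aa7298d33704cdd4e5f294973063a45d2c4a0365568a5e6f59ef92594a7a2ada953e67c2b4380ed55848a9f6c4db64e9c67a22583d1aa757dc0565c70d72dfb85a1192e52cdda3f355b2d6279d3ba365c76c3a3a594be9e3418b438d4a358343a58bed101bcb324ab849b9cad35507b26b826639c2e4d0f97a916c9d04b1858d0431b9e0c0593318590ca50a3c3252fddcfad677c7310023aadb5232e2f51a322165aa238a9b2de1539b0d91adc778534c56dc76ad2bd9a51955fad36316053d311453148550f15fda746a08fca634c80506247c3471ce8a8b13536aab370d2ac646352b4113a686d82c3c8770e5a72ebbd36f993a2b1b3646552133e4ca99e20351a6a2439bb94f9bab52ec600489d1d964fc7b5ff2909a82db432022f69c8aaa1565b56d031217c6d12ae16b5271693e124c587f83c41f67318145b4b2ae740f12c3588b08ee2c08a571a0bbfda190ce4820a9276c30e394764a1136b91a3d545cc30e1794b9d731f54f62e9a49452cce0af64f8ff501ec3bf4df74cfdc6a52ea8ca7c075a66b63a2e41a19c579a385927fe29d4ed72ec4d8ab2bb6fb1dc3ddb12b9ed62d12a3b3cde88778378240b1cb5cb7a48bed53744958b364d635e12cc478c99b0b23199c2a5308a88158bc843a6c56416a936824cc25b1e208fb5d9b59ea949b0e74226a715c279d29896511ab13b87a9084582c63487e109568dad020a28c260fba4ec1b431775320c62cc358cc9f55f881cf70e995093337a111d75d510d7a47d0b1021e660d08e38a33180f856e3495f0f491254741e37b7290a0b2ae2c6b51454b6631a1d5e8b80f4341))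 (TN.leaf (nat_lit 0x28ee56d6fb7f6ee57bd5a6f6e65bcef846fedc3a5fa7906ec7c0f66d86e0ede5aeb78eedca974b5b63dbab3ff6ac4fda721313ea24f466366eb29978774666adc9713324b549da7604dc2c2bafaab564c1fb7943e58de7b667bdd9b31b3316d009f98e70fdb3263485f35972699f32d685bf7b4312443cfbb9b615a1ddda2f343f896f27ac963b17f07668bc07acdca146c9d34f22d338a6d2b87524e0a6b2e733680af99334fea639b542a0e0bdd74549754f95736d4735a44abba59bcb8cbb2334e99391a06966c588f98a2846775197a63b3ddd9a95dceb8de1bd1d06db75ae6aa1bdb540ff1aee7e6fd5fe76ce17cb286ea5cdbad8fa45e3fc8190b6c5a3d298eb57383a1729a61629716c2f18cde4bd3ab58acf4b738f1a4d6da36ecc86a18dd32aa2254d5b49b652b5b0579cdbc309b89975fda59b4d8b7559ad77b81f13a5cf17eaab9f7dc7331926009a55fa99e04))))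
noncomputable def pi (i : ℕ) : ℕ := get9 pi_t (nat_lit 11) (nat_lit 2047) i
def pj_t : TN := (TN.node (TN.node (TN.leaf (nat_lit 0x514b3aff4795335b0a5c0fc10f5d16466936bdca74447388a57315235694191a01b00870a29e4800b14a31e03be468eeac127a7683f110300572929d460ef4cca2c69ed6a33db4225f50861e672d525d9bc15b630ca8d39391aef13cdff5e10688f3abc330c587d0ebbef3d42beb9fd4f5491253d6d7e2f2f2a6efa8d29a411e648d097533e1b05786d09824516ece2da221941d18d668ac26259e52ed854ae1986284217730e24cc285d032278c09d70f80d47559f5be585cf499310258d00ab06e3c04717021c5b8cb8dc5a871ef736d17a8bedac0e6a56e4bd0db884a86099d60d656abcc1c58e8f16e8d26687b13d92352a7c6c83193f2e9deab2028e784f2a4619c508a085116a3b8ed8e74884e8411381de361886a775515755a373979d5ee0a7add005a3d1717095cd62d02a0ba96c54bb9c6e605c2f8b67788c8f822e110390450c216a5c1d805c5bc2d8e32168303ca5da517c52d45c1f4408329000c63f81d80d12440c341180e8084520601e62cc3f97226e4f82781f4465f5144042780f8728e42182506087b7a88386e96c2c16397d9364d48ba0c8ba7585519da8f14450c4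e98b196154648a31208c038c2e39230870a17d274f0b3aabad635208127906b889f81b1e40e44c83833a228090ac2e813531260258c84290f519033c188110c8608668251362685886609c5d84a8e230c3eccd0c73465c44008c4822ba1b9964f0218311890864e44088d1e27643e97f1c162084acd0ee0283a8f705e4546285c0de08cce19e2b6100180f90ce2608089f1fe214898f40a6178c207021a4490584b84e0fc650540be294a00501da25c5519b0b0f240303a08e0508a11610609c1986a0ac3980e03c1fa120590b02e60b4bf0260820c8508690e643c1b2400560300c01d0840d04e00f0dc0887b01a1d805c1403d168080c182903c040048460262b4500160480387e02a0161d80a8080021240280400600803800)) (TN.leaf (nat_lit 0x3787f774cc8d4782ad3cec912d9e6bcb195979083554b685a6d6d6f73bbbd7fd9dc3563e905f2bc578ee8a76367665193f95076af5a3de9fb90f6be45535b6af0ce6b4847f225aab0b0fdacce76e8afae2ec6dd1b02a2cba702bfa2fb35c4d1c8b1559891324b2defd58fa0e1ab67a09cef6a7dbb5732919cebf3a270a5cfc794e74e4b42f967af4555dc5842ef6b3d50ba25fcb66aba557d14dbcc36904b5354cf093f87a7c95c6e599187186e349e7c9580a9967f84c880acd789a69491149c80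7132c324abd84ad9f9fa176bb595d68849425c26bc95ede1fa36a70d4b602ad55b51cedc3c4c13af6ce5f070e9655767ace8a21db3ef240e5df8b3e4213bee0e21ca272b3ca9e7bf46cd70bea2933ed124b34f34341aa5c035f597422dceaaaaf665a0ec3124107a4f878eabfab5305b555e56f6abf7ac8ea7c706433bd250c473b53b7e49b9da4576b06d1dbabbc6f28ab337fa56dba1f354905152466b0dac6beebeaf71efc1cb395d6a73e51b9949263db7b4fa8cddb24df89c58b9c624db917420647cc553af2468498d8c1be617ce584e1ab33beb8a1bd2e3aef80f48d36a7498dfae06d9788adb5fccbb37e61a6898b8d64d4a9b2adc1abc9f31d70341111d2f653625a0cdadc6fa389ac6631b05f3ce6be6602275df8d9bea4f9eb42b23495979a591ad743e7304bc46f38d166502a456ee6d38ab962b470dfd01c82e42fbb3a5e346626ed216f40d3abb353f1a129ce47ed0a8fe478660cb1e6a91ab56e90cbcc93188d1db75326a62c0c7ecc07d335c4a40ac9615acab7a6a5d8104236b4a4b3bba20f6899502512afe28e61da90b642d7248f19224db7cc70d9911f0d4057df4b66b9541521b046070818158311311a6cb14574708db6182383122721e8c31e997e8d0af5ed34d674354c11ec3a598d7b491584686e86ab1657b488e22392baf1d840b93f059206ce523a97f60c08528e86ae8e8ae6c5c951e3)))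 (TN.node (TN.leaf (nat_lit 0x7feb955e64e63b492ee69868d1ee66d6177544ea4cfaa988d93828236069a20db27cfaa723d875af8350b3d9a7f7614012dca1159f029d3eda3ca48df3a4849c45af364dde3ac70cd8ebc2568a82499d8f5586916293be90538d0e8c1be8b0fcf2ca81a1b535c9511900acd4345d794aa7298d33704cdd4e5f294973063a45d2c4a0365568a5e6f59ef92594a7a2ada953e67c2b4380ed55848a9f6c4db64e9c67a22583d1aa757dc0565c70d72dfb85a1192e52cdda3f355b2d6279d3ba365c76c3a3a594be9e3418b438d4a358343a58bed101bcb324ab849b9cad35507b26b826639c2e4d0f97a916c9d04b1858d0431b9e0c0593318590ca50a3c3252fddcfad677c7310023aadb5232e2f51a322165aa238a9b2de1539b0d91adc778534c56dc76ad2bd9a51955fad36316053d311453148550f15fda746a08fca634c80506247c3471ce8a8b13536aab370d2ac646352b4113a686d82c3c8770e5a72ebbd36f993a2b1b3646552133e4ca99e20351a6a2439bb94f9bab52ec600489d1d964fc7b5ff2909a82db432022f69c8aaa1565b56d031217c6d12ae16b5271693e124c587f83c41f67318145b4b2ae740f12c3588b08ee2c08a571a0bbfda190ce4820a9276c30e394764a1136b91a3d545cc30e1794b9d731f54f62e9a49452cce0af64f8ff501ec3bf4df74cfdc6a52ea8ca7c075a66b63a2e41a19c579a385927fe29d4ed72ec4d8ab2bb6fb1dc3ddb12b9ed62d12a3b3cde88778378240b1cb5cb7a48bed53744958b364d635e12cc478c99b0b23199c2a5308a88158bc843a6c56416a936824cc25b1e208fb5d9b59ea949b0e74226a715c279d29896511ab13b87a9084582c63487e109568dad020a28c260fba4ec1b431775320c62cc358cc9f55f881cf70e995093337a111d75d510d7a47d0b1021e660d08e38a33180f856e3495f0f491254741e37b7290a0b2ae2c6b51454b6631a1d5e8b80f4341))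 (TN.leaf (nat_lit 0x28ee56d6fb7f6ee57bd5a6f6e65bcef846fedc3a5fa7906ec7c0f66d86e0ede5aeb78eedca974b5b63dbab3ff6ac4fda721313ea24f466366eb29978774666adc9713324b549da7604dc2c2bafaab564c1fb7943e58de7b667bdd9b31b3316d009f98e70fdb3263485f35972699f32d685bf7b4312443cfbb9b615a1ddda2f343f896f27ac963b17f07668bc07acdca146c9d34f22d338a6d2b87524e0a6b2e733680af99334fea639b542a0e0bdd74549754f95736d4735a44abba59bcb8cbb2334e99391a06966c588f98a2846775197a63b3ddd9a95dceb8de1bd1d06db75ae6aa1bdb540ff1aee7e6fd5fe76ce17cb286ea5cdbad8fa45e3fc8190b6c5a3d298eb57383a1729a61629716c2f18cde4bd3ab58acf4b738f1a4d6da36ecc86a18dd32aa2254d5b49b652b5b0579cdbc309b89975fda59b4d8b7559ad77b81f13a5cf17eaab9f7dc7331926009a55fa99e04))))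
noncomputable def pj (i : ℕ) : ℕ := get9 pj_t (nat_lit 11) (nat_lit 2047) i
def Wo_t : TL := (TL.node (TL.node (TL.node (TL.leaf [nat_lit 4, nat_lit 0, nat_lit 5, nat_lit 4, nat_lit 0, nat_lit 5, nat_lit 4]) (TL.leaf [nat_lit 4, nat_lit 5, nat_lit 4, nat_lit 0, nat_lit 4, nat_lit 5, nat_lit 4])) (TL.node (TL.leaf [nat_lit 2]) (TL.leaf [nat_lit 0, nat_lit 5, nat_lit 4, nat_lit 0, nat_lit 6, nat_lit 4, nat_lit 0, nat_lit 4]))) (TL.node (TL.node (TL.leaf [nat_lit 4, nat_lit 1, nat_lit 4, nat_lit 0, nat_lit 4, nat_lit 5, nat_lit 0, nat_lit 4, nat_lit 0, nat_lit 1, nat_lit 4, nat_lit 1]) (TL.leaf [nat_lit 0, nat_lit 4, nat_lit 0])) (TL.leaf [nat_lit 3])))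
noncomputable def Wo (i : ℕ) : List ℕ := TL.get Wo_t i
noncomputable def g1 : ℕ → ℕ := nzE T (nat_lit 1782) (nat_lit 7) pi pj Wo
theorem ge0 : Nat.beq (rng g1 (nat_lit 0) (nat_lit 1782)) (nat_lit 0) = true := by decide +kernel
theorem l1 : ∀ i < 1782, g1 i = 0 := by
  have h := zero_lt_zero g1
  have h := zero_lt_add (a := (nat_lit 0)) (n := (nat_lit 1782)) (b := (nat_lit 1782)) h ge0 rfl
  exact h
noncomputable def g2 : ℕ → ℕ := ufE T [[nat_lit 4, nat_lit 1, nat_lit 2, nat_lit 1, nat_lit 3, nat_lit 2, nat_lit 3, nat_lit 1, nat_lit 4, nat_lit 2, nat_lit 0, nat_lit 5, nat_lit 4, nat_lit 0, nat_lit 4, nat_lit 1, nat_lit 4, nat_lit 2, nat_lit 3, nat_lit 0, nat_lit 1, nat_lit 2, nat_lit 3, nat_lit 4, nat_lit 1, nat_lit 2, nat_lit 1, nat_lit 4, nat_lit 0, nat_lit 5, nat_lit 4, nat_lit 1, nat_lit 2, nat_lit 1, nat_lit 2], [nat_lit 3, nat_lit 4, nat_lit 1, nat_lit 2, nat_lit 0, nat_lit 4, nat_lit 1, nat_lit 2, nat_lit 1, nat_lit 5, nat_lit 4, nat_lit 0, nat_lit 1, nat_lit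 4, nat_lit 2, nat_lit 1, nat_lit 3, nat_lit 2, nat_lit 4, nat_lit 5, nat_lit 0, nat_lit 1, nat_lit 2, nat_lit 1, nat_lit 3, nat_lit 2, nat_lit 4, nat_lit 0, nat_lit 1, nat_lit 2, nat_lit 5, nat_lit 4, nat_lit 0, nat_lit 1, nat_lit 3, nat_lit 2, nat_lit 1, nat_lit 4, nat_lit 0, nat_lit 1, nat_lit 5]] (nat_lit 0)
theorem gf0 : Nat.beq (rng g2 (nat_lit 0) (nat_lit 1782)) (nat_lit 0) = true := by decide +kernel
theorem l2 : ∀ i < 1782, g2 i = 0 := by
  have h := zero_lt_zero g2
  have h := zero_lt_add (a := (nat_lit 0)) (n := (nat_lit 1782)) (b := (nat_lit 1782)) h gf0 rfl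
  exact h
theorem out : Nat.card (Cfsg.Out (Cfsg.Spor.Suz)) = 2 := by
  obtain ⟨α, h⟩ := (md0).outer (top) (by decide +kernel) l1 (x := 0) (by decide) (by decide +kernel) l2
  exact out_two (ctr) aut (by rw [card]; decide) ((md0).outer3 h (ws := [[nat_lit 6], [], [nat_lit 6, nat_lit 4], [nat_lit 6, nat_lit 4, nat_lit 1], [nat_lit 6, nat_lit 4, nat_lit 1, nat_lit 2], [nat_lit 6, nat_lit 4, nat_lit 1, nat_lit 2, nat_lit 3]]) (y := 1) (by decide +kernel) (by decide +kernel))

end Cfsg.Agent.Ct.Suzo
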